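import Mathlib
import Cfsg.Agent.Lib.Helper44.FW.Defs

/-!
# Project FW (S3211), package [CY]

The square roots of `t₀ = x₀ (n x₀ n⁻¹)` inside `L₁ L₂` are at most four.
-/

set_option autoImplicit false

namespace Cfsg.Agent.Lib.Helper38.FW

open Cfsg.Agent.Lib.Helper44.FW

universe u

variable {G : Type u} [Group G]

/-- An element of the join of two commuting subgroups is a product. -/
theorem cy_mem_sup {L₁ L₂ : Subgroup G} (hc : ∀ x ∈ L₁, ∀ y ∈ L₂, x * y = y * x) {r : G}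
    (hr : r ∈ L₁ ⊔ L₂) : ∃ u ∈ L₁, ∃ v ∈ L₂, r = u * v := by
  let S : Subgroup G :=
    { carrier := {x | ∃ u ∈ L₁, ∃ v ∈ L₂, x = u * v}
      one_mem' := ⟨1, L₁.one_mem, 1, L₂.one_mem, by simp⟩
      mul_mem' := by
        rintro _ _ ⟨u, hu, v, hv, rfl⟩ ⟨u', hu', v', hv', rfl⟩
        refine ⟨u * u', L₁.mul_mem hu hu', v * v', L₂.mul_mem hv hv', ?_⟩
        have := hc u' hu' v hv
        calc u * v * (u' * v') = u * (v * u') * v' := by group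
          _ = u * (u' * v) * v' := by rw [this]
          _ = u * u' * (v * v') := by group
      inv_mem' := by
        rintro _ ⟨u, hu, v, hv, rfl⟩
        refine ⟨u⁻¹, L₁.inv_mem hu, v⁻¹, L₂.inv_mem hv, ?_⟩
        have := hc u⁻¹ (L₁.inv_mem hu) v⁻¹ (L₂.inv_mem hv)
        rw [mul_inv_rev, this] }
  have h1 : L₁ ≤ S := fun x hx => ⟨x, hx, 1, L₂.one_mem, by simp⟩
  have h2 : L₂ ≤ S := fun x hx => ⟨1, L₁.one_mem, x, hx, by simp⟩
  exact (sup_le h1 h2) hr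

/-- The solutions `u * v` of `u² = X`, `v² = Y` are `a` and `a * j`. -/
theorem cy_two {L₁ L₂ : Subgroup G} {j : G} (h1 : SL2Like L₁ j) (h2 : SL2Like L₂ j)
    (hj2 : j * j = 1) (hjc : ∀ v ∈ L₂, j * v = v * j)
    (X Y : G) (hX : X ∈ L₁) (hY : Y ∈ L₂) (hX2 : X ^ 2 = j) (hY2 : Y ^ 2 = j) :
    ∃ a : G, ∀ u ∈ L₁, ∀ v ∈ L₂, u ^ 2 = X → v ^ 2 = Y → u * v = a ∨ u * v = a * j := by
  by_cases h : ∃ u ∈ L₁, ∃ v ∈ L₂, u ^ 2 = X ∧ v ^ 2 = Y
  · obtain ⟨u0, hu0, v0, hv0, hu02, hv02⟩ := h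
    refine ⟨u0 * v0, ?_⟩
    intro u hu v hv hu2 hv2
    have hjv := hjc v0 hv0
    rcases h1.sq X hX hX2 u0 hu0 u hu hu02 hu2 with e1 | e1 <;>
    rcases h2.sq Y hY hY2 v0 hv0 v hv hv02 hv2 with e2 | e2 <;> rw [e1, e2]
    · exact Or.inl rfl
    · right; exact (mul_assoc _ _ _).symm
    · right; rw [mul_assoc, hjv, mul_assoc]
    · left
      calc u0 * j * (v0 * j) = u0 * (j * v0) * j := by group
        _ = u0 * (v0 * j) * j := by rw [hjv]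
        _ = u0 * v0 * (j * j) := by group
        _ = u0 * v0 := by rw [hj2, mul_one]
  · refine ⟨1, ?_⟩
    intro u hu v hv hu2 hv2
    exact absurd ⟨u, hu, v, hv, hu2, hv2⟩ h

/-- [CY] the square roots of `t₀ = x₀ (n x₀ n⁻¹)` inside `L₁ L₂` are at most four. -/
theorem pkgCY : PkgCY.{u} := by
  intro G _ L₁ L₂ j n hcfg h1 h2 x₀ hx₀ hx₀2
  have hj2' : j ^ 2 = 1 := by
    have := pow_orderOf_eq_one j
    rwa [hcfg.ord] at this
  have hj2 : j * j = 1 := by rw [← pow_two]; exact hj2'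
  have hjmem : j ∈ L₁ ⊓ L₂ := by rw [hcfg.meet]; exact Subgroup.mem_zpowers j
  have hjL1 : j ∈ L₁ := hjmem.1
  have hjL2 : j ∈ L₂ := hjmem.2
  have hcent : ∀ x ∈ L₁ ⊔ L₂, j * x = x * j := by
    intro x hx
    have := hcfg.le hx
    rw [Subgroup.mem_centralizer_iff] at this
    exact this j (Set.mem_singleton j)
  have hc1 : ∀ x ∈ L₁, j * x = x * j := fun x hx => hcent x (Subgroup.mem_sup_left hx)
  have hc2 : ∀ x ∈ L₂, j * x = x * j := fun x hx => hcent x (Subgroup.mem_sup_right hx)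
  have hnj : j * n = n * j := by
    have := hcfg.hn
    rw [Subgroup.mem_centralizer_iff] at this
    exact this j (Set.mem_singleton j)
  have hy₀ : n * x₀ * n⁻¹ ∈ L₂ := by
    rw [← hcfg.swap]
    exact Subgroup.mem_map.mpr ⟨x₀, hx₀, rfl⟩
  have hy₀2 : (n * x₀ * n⁻¹) ^ 2 = j := by
    have : (n * x₀ * n⁻¹) ^ 2 = n * x₀ ^ 2 * n⁻¹ := by
      rw [pow_two, pow_two]; group
    rw [this, hx₀2, ← hnj, mul_inv_cancel_right]
  have hmeet : ∀ d ∈ L₁, d ∈ L₂ → d = 1 ∨ d = j := by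
    intro d hd1 hd2
    have : d ∈ Subgroup.zpowers j := by rw [← hcfg.meet]; exact ⟨hd1, hd2⟩
    obtain ⟨k, rfl⟩ := Subgroup.mem_zpowers_iff.mp this
    rcases Int.even_or_odd' k with ⟨m, rfl | rfl⟩
    · left; rw [zpow_mul, zpow_ofNat, hj2', one_zpow]
    · right; rw [zpow_add, zpow_mul, zpow_ofNat, hj2', one_zpow, one_mul, zpow_one]
  obtain ⟨a, ha⟩ := cy_two h1 h2 hj2 hc2 x₀ (n * x₀ * n⁻¹) hx₀ hy₀ hx₀2 hy₀2
  have hxj2 : (x₀ * j) ^ 2 = j := by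
    have : (x₀ * j) ^ 2 = x₀ ^ 2 * (j * j) := by
      rw [pow_two, pow_two]
      calc x₀ * j * (x₀ * j) = x₀ * (j * x₀) * j := by group
        _ = x₀ * (x₀ * j) * j := by rw [hc1 x₀ hx₀]
        _ = x₀ * x₀ * (j * j) := by group
    rw [this, hx₀2, hj2, mul_one]
  have hyj2 : ((n * x₀ * n⁻¹) * j) ^ 2 = j := by
    have hcy := hc2 _ hy₀
    have : ((n * x₀ * n⁻¹) * j) ^ 2 = (n * x₀ * n⁻¹) ^ 2 * (j * j) := by
      rw [pow_two, pow_two]
      calc (n * x₀ * n⁻¹) * j * ((n * x₀ * n⁻¹) * j)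
          = (n * x₀ * n⁻¹) * (j * (n * x₀ * n⁻¹)) * j := by group
        _ = (n * x₀ * n⁻¹) * ((n * x₀ * n⁻¹) * j) * j := by rw [hcy]
        _ = (n * x₀ * n⁻¹) * (n * x₀ * n⁻¹) * (j * j) := by group
    rw [this, hy₀2, hj2, mul_one]
  obtain ⟨b, hb⟩ := cy_two h1 h2 hj2 hc2 (x₀ * j) ((n * x₀ * n⁻¹) * j)
    (L₁.mul_mem hx₀ hjL1) (L₂.mul_mem hy₀ hjL2) hxj2 hyj2
  refine ⟨a, b, ?_⟩
  intro r hr hr2
  obtain ⟨u, hu, v, hv, rfl⟩ := cy_mem_sup hcfg.comm hr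
  have huv : (u * v) ^ 2 = u ^ 2 * v ^ 2 := by
    have := hcfg.comm u hu v hv
    rw [pow_two, pow_two, pow_two]
    calc u * v * (u * v) = u * (v * u) * v := by group
      _ = u * (u * v) * v := by rw [this]
      _ = u * u * (v * v) := by group
  rw [huv] at hr2
  have hδ : x₀⁻¹ * u ^ 2 = (n * x₀ * n⁻¹) * (v ^ 2)⁻¹ := by
    rw [eq_mul_inv_iff_mul_eq, mul_assoc, hr2, inv_mul_cancel_left]
  have hδ1 : x₀⁻¹ * u ^ 2 ∈ L₁ := L₁.mul_mem (L₁.inv_mem hx₀) (L₁.pow_mem hu 2)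
  have hδ2 : x₀⁻¹ * u ^ 2 ∈ L₂ := by
    rw [hδ]; exact L₂.mul_mem hy₀ (L₂.inv_mem (L₂.pow_mem hv 2))
  rcases hmeet _ hδ1 hδ2 with h | h
  · have hu2 : u ^ 2 = x₀ := by rw [inv_mul_eq_one] at h; exact h.symm
    have hv2 : v ^ 2 = n * x₀ * n⁻¹ := by
      rw [hu2] at hr2; exact mul_left_cancel hr2
    rcases ha u hu v hv hu2 hv2 with e | e
    · left; exact e
    · right; left; exact e
  · have hu2 : u ^ 2 = x₀ * j := by rw [inv_mul_eq_iff_eq_mul] at h; exact h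
    have hv2 : v ^ 2 = (n * x₀ * n⁻¹) * j := by
      rw [hu2] at hr2
      have h3 : j * v ^ 2 = n * x₀ * n⁻¹ := by
        rw [mul_assoc] at hr2; exact mul_left_cancel hr2
      have h4 : v ^ 2 = j * (n * x₀ * n⁻¹) := by
        rw [← h3, ← mul_assoc, hj2, one_mul]
      rw [h4, hc2 _ hy₀]
    rcases hb u hu v hv hu2 hv2 with e | e
    · right; right; left; exact e
    · right; right; right; exact e

end Cfsg.Agent.Lib.Helper38.FW
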